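import Mathlib
import Cfsg.Agent.NG.LPBasic
import Cfsg.Agent.NG.Lines
import Cfsg.Agent.NG.Quad

/-! # Simple groups in which `C(Ω₁ Z(T)) = T` and the 2-locals over `T` are solvable: definitions
(text: `stubs/Cfsg/Agent/QL/PLAN.md`). -/

set_option autoImplicit false
set_option linter.unusedSectionVars false

namespace Cfsg.Agent.QL

open Cfsg Cfsg.Agent.GT Cfsg.Agent.Loc Cfsg.Agent.Loc.Mss Cfsg.Agent.NG Cfsg.Agent.NG.LP Subgroup
open scoped commutatorElement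

variable {G : Type*} [Group G]

/-- `H ∈ ℋ(T)`. -/
structure HT (T H : Subgroup G) : Prop where
  le : T ≤ H
  ne : pCoreOf 2 H ≠ ⊥

/-- The standing hypothesis. -/
structure Hy (T : Subgroup G) : Prop where
  simple : IsSimpleGroup G
  nab : ¬ IsMulCommutative G
  syl : Syl 2 T ⊤
  ne : T ≠ ⊥
  solv : ∀ H, HT T H → Group.IsSolvable H
  chp : ∀ H, HT T H → ChP 2 H
  rk : ∀ H, HT T H → PRankLE 3 2 (H ⧸ pCore 2 H)
  cZ : 𝐂[ΩZ[2, T]] ≤ T
  two : ∀ X : Subgroup G, IsPGroup 2 X → X ≠ ⊥ → ∃ H, HT T H ∧ ¬ H ≤ 𝐍[X]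

/-- A line of the Baumann subgroup of `T` inside a member of `ℋ(T)`. -/
structure TL (T V P : Subgroup G) (f w : G) : Prop extends Ln (bm T) V P f w where
  ex : ∃ H, HT T H ∧ P ≤ H

/-- All commutators of `B` are central of order at most two. -/
def Ex (B : Subgroup G) : Prop := ∀ a ∈ B, ∀ b ∈ B, ⁅a, b⁆ ∈ ΩZ[2, B]

/-- A central involution of `T` that no line centralizes. -/
def Good (T : Subgroup G) (z : G) : Prop :=
  z ∈ ΩZ[2, T] ∧ z ≠ 1 ∧ ∀ V P f w, TL T V P f w → ¬ Commute z f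

variable [Finite G] {T : Subgroup G}

theorem HT.norm {X : Subgroup G} (hX : IsPGroup 2 X) (h0 : X ≠ ⊥) (hn : T ≤ 𝐍[X]) : HT T 𝐍[X] :=
  ⟨hn, fun e => h0 (le_bot_iff.1 (e ▸ Am.le_pCoreOf le_normalizer le_rfl hX))⟩

section
variable {B V P : Subgroup G} {f : G} (l : Line B V P f) (h3 : f ^ 3 = 1)
include l h3

theorem line_notMem : f ∉ B := fun h => by
  obtain ⟨k, hk⟩ := l.pg ⟨f, h⟩
  have h1 : f ^ 2 ^ k = 1 := congrArg Subtype.val hk
  have h2 := Nat.dvd_gcd (orderOf_dvd_of_pow_eq_one h1) (orderOf_dvd_of_pow_eq_one h3)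
  rw [Nat.Coprime.pow_left k (by norm_num), Nat.dvd_one, orderOf_eq_one_iff] at h2
  exact l.ncent (h2 ▸ one_mem _)

theorem line_idx : B.relIndex P = 3 := by
  obtain ⟨a, ha, e1, e2⟩ := NG.Ln.l_exists_sup l
  have hB : B ≤ P := l.eqP ▸ le_sup_left
  have hf := NG.Ln.l_fmem l
  have hn : P ≤ 𝐍[B ⊓ 𝐂[V]] := l.core ▸ le_norm_core P
  set Q := B ⊓ 𝐂[V] with hQ
  have n1 : zpowers f ≤ 𝐍[Q] := zpowers_le.2 (hn hf)
  have n2 : B ≤ 𝐍[Q ⊔ zpowers f] := by
    rw [← e2]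
    refine sup_le (le_sup_left.trans le_normalizer) (zpowers_le.2 (mem_norm_of_cj_le ?_))
    rw [cj_sup, cj_of_norm (hn (hB (thJ_le 2 B ha))), MonoidHom.map_zpowers]
    exact sup_le_sup_left (zpowers_le.2 (e1.symm ▸ inv_mem (mem_zpowers f) : a * f * a⁻¹ ∈ _)) _
  have i1 : Q.relIndex (Q ⊔ zpowers f) ∣ 3 := by
    rw [HT.relIndex_sup_of_le_normalizer n1]
    refine (relIndex_dvd_card _ _).trans ?_
    rw [Nat.card_zpowers]
    exact orderOf_dvd_of_pow_eq_one h3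
  have eP : P = (Q ⊔ zpowers f) ⊔ B := by
    rw [sup_right_comm, sup_eq_right.2 (inf_le_left : Q ≤ B)]; exact l.eqP
  have i0 : Q.relIndex B = 2 := by rw [hQ, ← l.core]; exact l.relIndex_core
  have i2 : (Q ⊔ zpowers f).relIndex P ∣ 2 := by
    rw [eP, HT.relIndex_sup_of_le_normalizer n2, ← i0]
    exact relIndex_dvd_of_le_left _ le_sup_left
  have i3 := relIndex_mul_relIndex Q (Q ⊔ zpowers f) P le_sup_left (eP ▸ le_sup_left)
  have i4 := relIndex_mul_relIndex Q B P inf_le_left hB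
  have i5 : 2 * B.relIndex P ∣ 2 * 3 := by
    rw [← i0, i4, ← i3, i0, mul_comm 2 3]; exact mul_dvd_mul i1 i2
  refine ((Nat.dvd_prime Nat.prime_three).1 (Nat.dvd_of_mul_dvd_mul_left two_pos i5)).resolve_left
    fun e => line_notMem l h3 (relIndex_eq_one.1 e hf)

/-- `B` is maximal in `P`. -/
theorem line_max {X : Subgroup G} (h1 : B ≤ X) (h2 : X ≤ P) : X = B ∨ X = P := by
  have i := relIndex_mul_relIndex B X P h1 h2
  rw [line_idx l h3] at i
  rcases (Nat.dvd_prime Nat.prime_three).1 ⟨_, i.symm⟩ with e | e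
  · exact .inl (le_antisymm (relIndex_eq_one.1 e) h1)
  · rw [e] at i
    exact .inr (le_antisymm h2 (relIndex_eq_one.1 (by omega)))

end

end Cfsg.Agent.QL
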