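import Mathlib
import Cfsg.Agent.QL.Defs
import Cfsg.Agent.QT.Push
import Cfsg.Agent.GT.PGroupMaxClass

/-! # Lines inside members of `ℋ(T)`, and `N(B) = T`. -/

set_option autoImplicit false
set_option linter.unusedSectionVars false

namespace Cfsg.Agent.QL

open Cfsg Cfsg.Agent.GT Cfsg.Agent.Loc Cfsg.Agent.Loc.Mss Cfsg.Agent.NG Cfsg.Agent.NG.LP Subgroup
open scoped commutatorElement

variable {G : Type*} [Group G] [Finite G] {T H V P V' P' V'' P'' : Subgroup G}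
  {f w f' w' f'' w'' : G}

theorem oz_le_ozB (T : Subgroup G) : ΩZ[2, T] ≤ ΩZ[2, bm T] := fun _ hz =>
  oz_bm.ge (NG.Ln.mem_zJ (mem_oz.1 hz).1 (cent_anti (thJ_le 2 T) (mem_oz.1 hz).2.1) (mem_oz.1 hz).2.2)

theorem T_norm (T : Subgroup G) : T ≤ 𝐍[bm T] := norm_bm le_normalizer

/-- A group normalizing `B` and `P` acts trivially on `Ω₁ Z(B)` modulo the centre of `P`. -/
theorem comm_oz_le {B K : Subgroup G} (l : Line B V P f) (h1 : K ≤ 𝐍[B]) (h2 : K ≤ 𝐍[P]) :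
    ⁅ΩZ[2, B], K⁆ ≤ 𝐂[P] := by
  have n : ΩZ[2, B] ≤ 𝐍[ΩZ[2, B] ⊓ 𝐂[P]] := NG.Ln.norm_of_ea (ea_oz _) inf_le_left
  refine (NG.Ln.comm_le_of_dvd_two inf_le_left n ?_ (norm_oz h1)
    (norm_inf (norm_oz h1) (norm_cent h2))).trans inf_le_right
  have e := HT.relIndex_sup_of_le_normalizer ((inf_le_left : ΩZ[2, B] ⊓ V ≤ _).trans n)
  rw [l.oz_eq.1] at e
  rw [e]
  exact (relIndex_dvd_card _ _).trans l.oz_eq.2.1.dvd

theorem TL.cj (l : TL T V P f w) (k : HT T H) (hP : P ≤ H) {g : G} (h1 : g ∈ H)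
    (h2 : g ∈ 𝐍[bm T]) : TL T cj(g, V) cj(g, P) (g * f * g⁻¹) (g * w * g⁻¹) :=
  ⟨by simpa only [cj_of_norm h2] using l.toLn.cj g, H, k, cj_le_of_mem hP h1⟩

theorem TL.cjT (l : TL T V P f w) {t : G} (ht : t ∈ T) :
    TL T cj(t, V) cj(t, P) (t * f * t⁻¹) (t * w * t⁻¹) :=
  let ⟨_, k, hP⟩ := l.ex
  l.cj k hP (k.le ht) (T_norm T ht)

namespace Hy
variable (h : Hy T)
include h

theorem pg : IsPGroup 2 T := h.syl.pg

theorem B_ne : bm T ≠ ⊥ := fun e =>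
  thJ_ne_bot (dvd_refl 2) h.pg h.ne (le_bot_iff.1 (e ▸ thJ_le_bm T))

theorem ht_cent {z : G} (hz : z ∈ ΩZ[2, T]) (h1 : z ≠ 1) : HT T 𝐂[zpowers z] := by
  have l := zpowers_le.2 hz
  exact ⟨cent_comm (l.trans (oz_le_cent T)), fun e => h1 (mem_bot.1 (e ▸ Am.le_pCoreOf
    ((ea_oz T).mono l).le_centralizer (cent_le_norm _) ((ea_oz T).mono l).isPGroup (mem_zpowers z)))⟩

variable (k : HT T H)
include k

theorem sylH : Syl 2 T H := h.syl.mono k.le le_top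

theorem cY : 𝐂[𝐘[2, H]] ≤ T := (cent_anti (oz_le_Y (h.chp H k) (h.sylH k))).trans h.cZ

theorem tlg (l : TL T V P f w) (hP : P ≤ H) : V ≤ 𝐘[2, H] ∧ TLg H 𝐘[2, H] V f :=
  l.toLine.le_Y (h.solv H k) (h.chp H k) hP (h.sylH k) rfl

theorem fact {K : Subgroup G} (h1 : H ⊓ 𝐍[bm T] ≤ K)
    (h2 : ∀ V P f w, TL T V P f w → P ≤ H → f ∈ K) : H ≤ K := by
  refine (fact_lines (h.solv H k) (h.chp H k) (h.sylH k) (red_Y H)).trans (sup_le (sup_le
    ((inf_le_inf_left _ ((h.cY k).trans (T_norm T))).trans h1) h1) (sSup_le ?_))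
  rintro P ⟨hP, V, f, l, -⟩
  obtain ⟨w, m⟩ := Line.exists_ln l
  exact m.P_le ((le_inf ((bm_le T).trans k.le) le_normalizer).trans h1) (h2 V P f w ⟨m, H, k, hP⟩ hP)

omit k in
theorem cube (l : TL T V P f w) : f ^ 3 = 1 := by
  obtain ⟨H, k, hP⟩ := l.ex
  obtain ⟨a, b⟩ := h.tlg k l hP
  obtain ⟨K, k1, k2⟩ := b.mem
  have e : zpowers (f * f) = zpowers f := le_antisymm
    (zpowers_le.2 (mul_mem (mem_zpowers f) (mem_zpowers f))) (zpowers_le.2 (l.mem_of_sq (mem_zpowers _)))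
  have c : f ^ 3 ∈ T := by
    rcases b.gen_eq (k' := f * f) ⟨e ▸ b.eq, b.card, K, mul_mem k1 k1, k2⟩ (red_Y H) with c | c
    · exact absurd (cent_anti a (by simpa using c)) l.ncent
    · exact h.cY k (by simpa only [pow_succ, pow_zero, one_mul] using c)
  obtain ⟨n, hn⟩ := h.pg ⟨_, c⟩
  obtain ⟨m, hm⟩ := l.three
  have h1 : (f ^ 3) ^ 2 ^ n = 1 := congrArg Subtype.val hn
  have h2 : (f ^ 3) ^ 3 ^ m = 1 := by rw [← pow_mul, mul_comm, pow_mul, hm, one_pow]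
  have h3 := Nat.dvd_gcd (orderOf_dvd_of_pow_eq_one h1) (orderOf_dvd_of_pow_eq_one h2)
  rwa [Nat.Coprime.pow n m (by norm_num), Nat.dvd_one, orderOf_eq_one_iff] at h3

variable (l : TL T V P f w) (hP : P ≤ H) (l' : TL T V' P' f' w') (hP' : P' ≤ H)
include l hP l' hP'

theorem comm : V' ≤ 𝐂[V] :=
  (h.tlg k l' hP').1.trans ((Y_le_cent H).trans (cent_anti (h.tlg k l hP).1))

theorem of_ne (n : V ≠ V') : f ∈ 𝐂[V'] ∧ w ≠ w' := by
  obtain ⟨a, b⟩ := (h.tlg k l hP).2.cent_of_ne (h.tlg k l' hP').2 (red_Y H) n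
  exact ⟨a, fun e => l.w1 (mem_bot.1 (b ▸ mem_inf.2 ⟨l.wV, e ▸ l'.wV⟩))⟩

theorem le_of_eq (e : V = V') : P' ≤ P := by
  subst e
  have n := norm_cent (le_norm_Y (p := 2) H) (hP l.fP)
  have nJ : T ≤ 𝐍[thJ 2 (bm T)] := JC.norm_thJ (T_norm T)
  have lJ : thJ 2 (bm T) ≤ P := (thJ_le 2 _).trans l.BP
  refine l'.P_le l.BP (NG.Ln.l_mem l'.toLine lJ ?_)
  rcases (h.tlg k l hP).2.gen_eq (h.tlg k l' hP').2 (red_Y H) with c | c
  · have e : f' = f * (f⁻¹ * (f' * f⁻¹) * f) := by group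
    rw [e, ← cj_cj, cj_of_norm (nJ (h.cY k (conj_mem_of_norm' n c)))]
    exact cj_le_of_mem lJ l.fP
  · have e : f' = f⁻¹ * (f * (f' * f) * f⁻¹) := by group
    rw [e, ← cj_cj, cj_of_norm (nJ (h.cY k (conj_mem_of_norm n c)))]
    exact cj_le_of_mem lJ (inv_mem l.fP)

theorem of_eq (e : V = V') : P = P' ∧ w = w' := by
  refine ⟨le_antisymm (h.le_of_eq k l' hP' l hP e.symm) (h.le_of_eq k l hP l' hP' e), ?_⟩
  subst e
  obtain ⟨A, hA, a, ha, c, -⟩ := l.exists_a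
  obtain ⟨v, hv, e⟩ := l.exists_v (abFam_le hA ha) c
  rcases l'.commV hv (abFam_le hA ha) with c | c
  · exact absurd (e.symm.trans (comm_iff.2 c)) l.w1
  · exact e.symm.trans c

theorem comm_f (n : V ≠ V') : ⁅f, f'⁆ ∈ pCoreOf 2 H := by
  obtain ⟨a, b⟩ := h.tlg k l hP
  obtain ⟨a', b'⟩ := h.tlg k l' hP'
  have c := (h.of_ne k l hP l' hP' n).1
  have c' := (h.of_ne k l' hP' l hP n.symm).1
  have m : ⁅f, f'⁆ ∈ H := comm_le_left le_normalizer (commutator_mem_commutator (hP l.fP) (hP' l'.fP))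
  refine Am.le_pCoreOf (inf_le_left : H ⊓ 𝐂[𝐘[2, H]] ≤ H)
    (norm_inf le_normalizer (norm_cent (le_norm_Y H))) (h.pg.to_le (inf_le_right.trans (h.cY k)))
    (mem_inf.2 ⟨m, ?_⟩)
  rw [← b.sup_cent (red_Y H), cent_sup]
  refine mem_inf.2 ⟨mul_mem (conj_mem_of_norm (norm_cent l.norm l.fP) c') (inv_mem c'), ?_⟩
  have n1 : zpowers f' ≤ 𝐍[𝐘[2, H] ⊓ 𝐂[zpowers f]] := norm_of_comm_le inf_le_left
    (b'.eq ▸ le_inf a' (cent_comm (zpowers_le.2 c)))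
  have n2 : f ∈ 𝐂[𝐘[2, H] ⊓ 𝐂[zpowers f]] := cent_comm inf_le_right (mem_zpowers f)
  have := mul_mem n2 (conj_mem_of_norm (norm_cent n1 (mem_zpowers f')) (inv_mem n2))
  simpa only [commutatorElement_def, mul_assoc] using this

/-- A member of `ℋ(T)` has at most two lines. -/
theorem three (l'' : TL T V'' P'' f'' w'') (hP'' : P'' ≤ H) : V = V' ∨ V = V'' ∨ V' = V'' := by
  by_contra n
  push Not at n
  obtain ⟨n1, n2, n3⟩ := n
  have : Fact (Nat.Prime 3) := ⟨Nat.prime_three⟩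
  let φ := QuotientGroup.mk' (pCore 2 H)
  have cm : ∀ {V P f w V' P' f' w'} (l : TL T V P f w) (hP : P ≤ H) (l' : TL T V' P' f' w')
      (hP' : P' ≤ H), V ≠ V' → φ ⟨f', hP' l'.fP⟩ ∈ 𝐂[zpowers (φ ⟨f, hP l.fP⟩)] :=
    fun l hP l' hP' n => cent_comm (zpowers_le.2 (mem_cent.2 fun _ ha => ?_)) (mem_zpowers _)
  · have cb : ∀ {V P f w} (l : TL T V P f w) (hP : P ≤ H), φ ⟨f, hP l.fP⟩ ^ 3 = 1 := fun l hP => by
      rw [← map_pow, ← φ.map_one]; exact congrArg φ (Subtype.ext (h.cube l))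
    have nm : ∀ {V P f w} (l : TL T V P f w) (hP : P ≤ H),
        φ ⟨f, hP l.fP⟩ ∉ ((𝐂[V]).subgroupOf H).map φ := fun l hP m => by
      have := mem_comap.2 m
      rw [comap_map_eq_self fun x hx => mem_subgroupOf.2 (cent_anti (h.tlg k l hP).1 (core_le_cent_Y H
        (mem_map_of_mem H.subtype ((QuotientGroup.ker_mk' _).le hx))))] at this
      exact l.ncent this
    have e1 := IsElementaryAbelian.bot.sup_zpowers (cb l hP) (by rw [cent_bot]; trivial)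
    rw [bot_sup_eq] at e1
    have e2 := e1.sup_zpowers (cb l' hP') (cm l hP l' hP' n1)
    have e3 := e2.sup_zpowers (cb l'' hP'') (by
      rw [cent_sup]; exact ⟨cm l hP l'' hP'' n2, cm l' hP' l'' hP'' n3⟩)
    have s1 := PG.mul_card_le_of_lt e1.isPGroup (bot_lt_iff_ne_bot.2 fun e =>
      nm l hP (e.le.trans bot_le (mem_zpowers _)))
    have s2 := PG.mul_card_le_of_lt e2.isPGroup (left_lt_sup.2 fun e => nm l' hP' (zpowers_le.2
      (mem_map_of_mem φ (h.of_ne k l hP l' hP' n1).1) (e (mem_zpowers _))))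
    have s3 := PG.mul_card_le_of_lt e3.isPGroup (left_lt_sup.2 fun e => nm l'' hP'' (sup_le
      (zpowers_le.2 (mem_map_of_mem φ (h.of_ne k l hP l'' hP'' n2).1))
      (zpowers_le.2 (mem_map_of_mem φ (h.of_ne k l' hP' l'' hP'' n3).1)) (e (mem_zpowers _))))
    have s4 := h.rk H k _ e3.1 e3.2
    rw [card_bot] at s1
    omega
  · obtain ⟨n', rfl⟩ := mem_zpowers_iff.1 ha
    refine (Commute.zpow_left (commutatorElement_eq_one_iff_commute.1 ?_) n').eq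
    rw [← map_commutatorElement]
    obtain ⟨y, hy, e⟩ := h.comm_f k l' hP' l hP n.symm
    exact (QuotientGroup.eq_one_iff _).2 ((Subtype.ext e : y = ⁅(⟨_, hP' l'.fP⟩ : H), ⟨_, hP l.fP⟩⁆) ▸ hy)

omit l' hP' in
theorem norm_P {g : G} (h1 : g ∈ H) (h2 : g ∈ 𝐍[bm T]) (h3 : g ∈ 𝐍[V]) : g ∈ 𝐍[P] :=
  cj_eq_iff.1 (h.of_eq k l hP (l.cj k hP h1 h2) (cj_le_of_mem hP h1) (cj_of_norm h3).symm).1.symm

omit l' hP' in
theorem sq_norm {g : G} (h1 : g ∈ H) (h2 : g ∈ 𝐍[bm T]) : g ^ 2 ^ 1 ∈ 𝐍[P] := by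
  rw [pow_one, sq]
  refine h.norm_P k l hP (mul_mem h1 h1) (mul_mem h2 h2) ?_
  rcases h.three k l hP (l.cj k hP h1 h2) (cj_le_of_mem hP h1)
    (l.cj k hP (mul_mem h1 h1) (mul_mem h2 h2)) (cj_le_of_mem hP (mul_mem h1 h1)) with e | e | e
  · exact mul_mem (cj_eq_iff.1 e.symm) (cj_eq_iff.1 e.symm)
  · exact cj_eq_iff.1 e.symm
  · rw [← cj_cj] at e
    have := cj_eq_iff.1 (le_antisymm (cj_le_cj.1 e.ge) (cj_le_cj.1 e.le))
    exact mul_mem this this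

end Hy

namespace Hy
variable (h : Hy T)
include h

theorem star (k : HT T H) {M : Subgroup G} (h1 : T ≤ M)
    (h2 : ∀ U : Subgroup G, U ≠ ⊥ → U ≤ bm T → 𝐍[bm T] ≤ 𝐍[U] → 𝐍[U] ≤ M) : H ≤ M := by
  by_contra n
  have e : baumannSubgroupOf 2 T = bm T := Blk.bB_eq T
  obtain ⟨U, a1, a2, a3, a4⟩ := QT.push_main (M := 𝐍[bm T]) (M' := M)
    (fun Y a b c => h.chp _ (HT.norm a b c)) h.syl (T_norm T) (h.sylH k) le_rfl
    (k.le.trans le_normalizer) (h.chp H k) (e ▸ le_rfl) ((inf_le_right.trans h.cZ).trans h1)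
    (fun C a b c => inf_le_right.trans (h2 C b (e ▸ a) (e ▸ c))) n
  exact a4 (inf_le_right.trans (h2 U a1 (e ▸ a2) a3))

theorem normB : 𝐍[bm T] ≤ T := by
  have hO := res_le (p := 2) 𝐍[bm T]
  have hn : 𝐍[bm T] ≤ 𝐍[⁅ΩZ[2, bm T], pResidualOf 2 𝐍[bm T]⁆] :=
    norm_comm (norm_oz le_rfl) (le_norm_res _)
  have h0 : ⁅ΩZ[2, bm T], pResidualOf 2 𝐍[bm T]⁆ = ⊥ := by_contra fun h0 => by
    obtain ⟨H, k, n⟩ := h.two _ ((ea_oz _).isPGroup.to_le (comm_le_left (norm_oz hO))) h0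
    refine n (h.star k ((T_norm T).trans hn) fun U a1 a2 a3 => ?_)
    have k' := HT.norm (h.pg.to_le (a2.trans (bm_le T))) a1 ((T_norm T).trans a3)
    refine h.fact k' (inf_le_right.trans hn) fun V P f w l hP => cent_le_norm _ ?_
    exact cent_comm (comm_oz_le l.toLine hO (res_le_of_pow fun x hx =>
      ⟨1, h.sq_norm k' l hP (a3 hx) hx⟩)) l.fP
  have h1 := ((comm_eq_bot_iff'.1 h0).trans (cent_anti (oz_le_ozB T))).trans h.cZ
  refine (h.syl.eq_of_le (pg_of_res_eq_bot (le_bot_iff.1 ?_)) (T_norm T) le_top).le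
  exact res_eq_bot_of_pg h.pg ▸ res_le_res h1

theorem gen (k : HT T H) {K : Subgroup G} (h1 : T ≤ K)
    (h2 : ∀ V P f w, TL T V P f w → P ≤ H → f ∈ K) : H ≤ K :=
  h.fact k ((inf_le_right.trans h.normB).trans h1) h2

theorem not_all {X : Subgroup G} (hX : IsPGroup 2 X) (h1 : T ≤ 𝐍[X])
    (h2 : ∀ V P f w, TL T V P f w → f ∈ 𝐍[X]) : X = ⊥ := by_contra fun h0 =>
  let ⟨_, k, n⟩ := h.two X hX h0
  n (h.gen k h1 fun V P f w l _ => h2 V P f w l)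

theorem good {z : G} (g : Good T z) : centralizer ({z} : Set G) ≤ T := by
  rw [← centralizer_closure, ← zpowers_eq_closure]
  exact h.gen (h.ht_cent g.1 g.2.1) le_rfl fun V P f w l hP =>
    absurd (mem_cent'.1 (hP l.fP) z (mem_zpowers z)) (g.2.2 V P f w l)

/-- If the lines do not commute pairwise with each other's `V`. -/
theorem exists_pair : ∃ V P f w V' P' f' w', TL T V P f w ∧ TL T V' P' f' w' ∧ f ∉ 𝐍[V ⊔ V'] := by
  by_contra n
  push Not at n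
  set X := sSup {V | ∃ P f w, TL T V P f w} with hX
  have l1 : X ≤ bm T := sSup_le fun V ⟨_, _, _, l⟩ => l.le
  have l2 : ∀ {V P f w}, TL T V P f w → V ≤ X := fun l => le_sSup ⟨_, _, _, l⟩
  have e := h.not_all (h.pg.to_le (l1.trans (bm_le T))) (norm_of_forall_cj_le fun t ht =>
    cj_le_iff_le_inv.2 (sSup_le fun V ⟨_, _, _, l⟩ => cj_le_iff_le_inv.1 (l2 (l.cjT ht))))
    fun V P f w l => mem_norm_of_cj_le (cj_le_iff_le_inv.2 (sSup_le fun V' ⟨_, _, _, l'⟩ =>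
      cj_le_iff_le_inv.1 ((cj_le_of_norm le_sup_right (n _ _ _ _ _ _ _ _ l l')).trans
        (sup_le (l2 l) (l2 l')))))
  exact h.ne (h.not_all h.pg le_normalizer fun V P f w l =>
    absurd (le_bot_iff.1 (e ▸ l2 l)) l.V_ne)

end Hy

end Cfsg.Agent.QL
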