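import Mathlib
import Cfsg.Agent.QL.Defs
import Cfsg.Agent.Loc.CubicS4
import Cfsg.Agent.Loc.PUAm5

set_option autoImplicit false
set_option linter.unusedSectionVars false

namespace Cfsg.Agent.QL

open Cfsg Cfsg.Agent.GT Cfsg.Agent.Loc Cfsg.Agent.Loc.Mss Cfsg.Agent.NG Cfsg.Agent.NG.LP Subgroup
open scoped commutatorElement

variable {G : Type*} [Group G] [Finite G]

namespace Cub

theorem s4a : ∀ x : Equiv.Perm (Fin 4), x ^ 12 = 1 := by decide +kernel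

set_option synthInstance.maxSize 1000 in
theorem s4b0 : ∀ a b : Equiv.Perm (Fin 4), a * b ≠ b * a → a ^ 4 = 1 → b ^ 4 = 1 → (a * b) ^ 4 = 1 →
    (a * b * a⁻¹ * b⁻¹) ^ 2 = 1 ∧ ∀ c, c ^ 4 = 1 → (a * c) ^ 4 = 1 → (b * c) ^ 4 = 1 →
      c * (a * b * a⁻¹ * b⁻¹) = a * b * a⁻¹ * b⁻¹ * c := by decide +kernel

theorem s4b (a b c : Equiv.Perm (Fin 4)) (h1 : a ^ 4 = 1) (h2 : b ^ 4 = 1) (h3 : (a * b) ^ 4 = 1) (h4 : c ^ 4 = 1)
    (h5 : (a * c) ^ 4 = 1) (h6 : (b * c) ^ 4 = 1) :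
    c * (a * b * a⁻¹ * b⁻¹) = a * b * a⁻¹ * b⁻¹ * c ∧ (a * b * a⁻¹ * b⁻¹) ^ 2 = 1 := by
  by_cases h : a * b = b * a
  · simp [h]
  · exact ⟨(s4b0 a b h h1 h2 h3).2 c h4 h5 h6, (s4b0 a b h h1 h2 h3).1⟩

theorem s4c {x : Equiv.Perm (Fin 4)} {k : ℕ} (h : x ^ 2 ^ k = 1) : x ^ 4 = 1 := by
  have h1 := Nat.dvd_gcd (orderOf_dvd_of_pow_eq_one h) (orderOf_dvd_of_pow_eq_one (s4a x))
  refine orderOf_dvd_iff_pow_eq_one.1 (h1.trans ?_)
  exact (Nat.Coprime.dvd_mul_right (Nat.Coprime.coprime_dvd_left (Nat.gcd_dvd_left _ _)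
    (Nat.Coprime.pow_left k (by norm_num : Nat.Coprime 2 3)))).1 (Nat.gcd_dvd_right (2 ^ k) (4 * 3))

/-- A `2`-group with an injective homomorphism into `A × S₄`, `A` commutative. -/
theorem ex_of {B : Subgroup G} (hB : IsPGroup 2 B) {A : Type} [CommGroup A] (φ : B →* A × Equiv.Perm (Fin 4))
    (hφ : Function.Injective φ) : Ex B := fun a ha b hb => by
  have h4 : ∀ x : B, (φ x).2 ^ 4 = 1 := fun x => by
    obtain ⟨k, hk⟩ := hB x
    exact s4c (k := k) (by rw [← Prod.pow_snd, ← map_pow, hk, map_one]; rfl)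
  have key := fun a b c : B => s4b (φ a).2 (φ b).2 (φ c).2 (h4 _) (h4 _)
    (by simpa using h4 (a * b)) (h4 _) (by simpa using h4 (a * c)) (by simpa using h4 (b * c))
  have k1 : ∀ a b c : B, c * ⁅a, b⁆ = ⁅a, b⁆ * c := fun a b c => hφ (Prod.ext
    (by simp only [map_mul, Prod.fst_mul]; exact mul_comm _ _)
    (by simpa [commutatorElement_def] using (key a b c).1))
  have k2 : ∀ a b : B, ⁅a, b⁆ ^ 2 = 1 := fun a b => hφ (Prod.ext (by simp [commutatorElement_def])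
    (by simpa [commutatorElement_def] using (key a b 1).2))
  exact mem_oz.2 ⟨(⁅(⟨a, ha⟩ : B), (⟨b, hb⟩ : B)⁆).2,
    mem_cent.2 fun c hc => congrArg Subtype.val (k1 ⟨a, ha⟩ ⟨b, hb⟩ ⟨c, hc⟩), congrArg Subtype.val (k2 ⟨a, ha⟩ ⟨b, hb⟩)⟩

theorem side {B V P X : Subgroup G} {f : G} (l : Line B V P f) (h3 : f ^ 3 = 1) (hX : P ≤ X) :
    (B.subgroupOf X).relIndex (P.subgroupOf X) = 3 ∧
      (pCoreOf 2 (P.subgroupOf X)).relIndex (P.subgroupOf X) = 6 ∧ Am.IsCharP 2 (P.subgroupOf X) ∧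
      ¬ P.subgroupOf X ≤ centralizer (Am.omZ 2 (B.subgroupOf X) : Set X) := by
  have hf := X.subtype_injective
  have eO : (pCoreOf 2 (P.subgroupOf X)).map X.subtype = pCoreOf 2 P := by
    rw [← PU.map_core' hf, map_subgroupOf_eq_of_le hX]
  have eO' : pCoreOf 2 (P.subgroupOf X) = (pCoreOf 2 P).subgroupOf X := by
    rw [← eO]
    exact (comap_map_eq_self_of_injective hf _).symm
  refine ⟨by rw [relIndex_subgroupOf hX, line_idx l h3], ?_, fun x hx => ?_, fun h => ?_⟩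
  · rw [eO', relIndex_subgroupOf hX, ← relIndex_mul_relIndex _ B P l.syl.core_le l.syl.le, line_idx l h3,
      l.relIndex_core]
  · rw [eO']
    refine l.chp ⟨hx.1, ?_⟩
    rw [← eO]
    exact map_cent_le X.subtype le_rfl (mem_map_of_mem _ hx.2)
  · obtain ⟨w, hw⟩ := LP.Line.exists_ln l
    obtain ⟨w1, w2, w3⟩ := mem_oz.1 hw.wZ
    have h1 : (⟨w, hX (hw.BP w1)⟩ : X) ∈ Am.omZ 2 (B.subgroupOf X) :=
      mem_oz.2 ⟨w1, mem_cent.2 fun a ha => Subtype.ext (mem_cent.1 w2 a ha), Subtype.ext w3⟩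
    exact hw.wf (congrArg Subtype.val (h (x := ⟨f, hX hw.fP⟩) hw.fP _ h1))

end Cub

/-- Two lines without a common normal subgroup of `B`: `B` is `D₈` or `2 × D₈`. -/
theorem cub {B V P V' P' : Subgroup G} {f f' : G} (l : Line B V P f) (l' : Line B V' P' f')
    (h3 : f ^ 3 = 1) (h3' : f' ^ 3 = 1)
    (h : ∀ N : Subgroup G, N ≤ B → P ≤ 𝐍[N] → P' ≤ 𝐍[N] → N = ⊥) : Ex B := by
  have e : P ⊓ P' = B := (line_max l h3 (le_inf l.syl.le l'.syl.le) inf_le_left).resolve_right fun e => by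
    rcases line_max l' h3' l.syl.le (inf_eq_left.1 e) with e | e
    · exact line_notMem l h3 (e ▸ NG.Ln.l_fmem l)
    · have := l.card
      rw [h V l.le l.norm (e ▸ l.norm), card_bot] at this
      omega
  have e' : P.subgroupOf (P ⊔ P') ⊓ P'.subgroupOf (P ⊔ P') = B.subgroupOf (P ⊔ P') := by
    rw [← e]; rfl
  obtain ⟨a1, a2, a3, a4⟩ := Cub.side l h3 (X := P ⊔ P') le_sup_left
  obtain ⟨b1, b2, b3, b4⟩ := Cub.side l' h3' (X := P ⊔ P') le_sup_right
  have hc : Loc.Cub.CubicC (P.subgroupOf (P ⊔ P')) (P'.subgroupOf (P ⊔ P')) :=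
    { gen := by rw [← subgroupOf_sup le_sup_left le_sup_right, subgroupOf_self]
      core := fun N hN hn => by
        have h1 := map_norm_le (P ⊔ P').subtype (norm_normal ⊤ N)
        rw [map_subtype_top] at h1
        refine (map_eq_bot_iff_of_injective _ (P ⊔ P').subtype_injective).1
          (h _ (map_le_iff_le_comap.2 (hN.trans e'.le)) (le_sup_left.trans h1) (le_sup_right.trans h1))
      fin₁ := inferInstance
      fin₂ := inferInstance
      two := e' ▸ l.pg.comap_subtype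
      three₁ := e' ▸ a1
      three₂ := e' ▸ b1
      six₁ := a2
      six₂ := b2
      char₁ := a3
      char₂ := b3 }
  let ι : B →* P.subgroupOf (P ⊔ P') := (subgroupOfEquivOfLe le_sup_left).symm.toMonoidHom.comp (inclusion l.syl.le)
  have hι : Function.Injective ι := (subgroupOfEquivOfLe le_sup_left).symm.injective.comp (inclusion_injective _)
  rcases hc.iso_of_not_central (e' ▸ a4) (e' ▸ b4) with ⟨⟨φ⟩, -⟩ | ⟨⟨φ⟩, -⟩
  · exact Cub.ex_of l.pg (A := Unit) ((MonoidHom.inr _ _).comp (φ.toMonoidHom.comp ι))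
      fun a b e => hι (φ.injective (congrArg Prod.snd e))
  · exact Cub.ex_of l.pg (φ.toMonoidHom.comp ι) (φ.injective.comp hι)

end Cfsg.Agent.QL
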