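import Mathlib
import Cfsg.Agent.QL.Basic

/-! # The case that the Baumann subgroup has class two: a good involution. -/

set_option autoImplicit false
set_option linter.unusedSectionVars false

namespace Cfsg.Agent.QL

open Cfsg Cfsg.Agent.GT Cfsg.Agent.Loc Cfsg.Agent.Loc.Mss Cfsg.Agent.NG Cfsg.Agent.NG.LP Subgroup
open scoped commutatorElement

variable {G : Type*} [Group G] [Finite G] {B T H V P V' P' V'' P'' : Subgroup G}
  {f w f' w' f'' w'' t : G}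

section
variable (e : Ex B) (l : Ln B V P f w)
include e l

/-- Every line is a block. -/
theorem Ex.blk : ⁅B ⊓ 𝐂[V], zpowers f⁆ ≤ V := by
  have nf : zpowers f ≤ 𝐍[V] := zpowers_le.2 (l.norm l.fP)
  have c : ⁅ΩZ[2, B] ⊔ V, zpowers f⁆ ≤ V := GT.commutator_sup_le
    (sup_le ((oz_le B).trans (l.BP.trans l.norm)) le_normalizer) l.comm (comm_le_left nf)
  have n1 : B ≤ 𝐍[ΩZ[2, B] ⊔ V] := norm_sup (norm_oz le_normalizer) (l.BP.trans l.norm)
  have n2 : P ≤ 𝐍[ΩZ[2, B] ⊔ V] := l.P_le n1 (norm_of_comm_le' le_sup_right c (mem_zpowers f))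
  obtain ⟨A, hA, a, ha, hn, -⟩ := l.exists_a
  have aB := abFam_le hA ha
  have m := l.mem_of_norm (norm_cmod l.normQ n2) aB hn
    (mem_cmod.2 ⟨n1 aB, fun q hq => mem_sup_left (e q hq.1 a aB)⟩)
  rw [← CopAct.commutator_commutator_eq (zpowers_le.2 (l.normQ l.fP)) (by
    obtain ⟨k, hk⟩ := IsPGroup.iff_card.1 (l.pg.to_le (inf_le_left : B ⊓ 𝐂[V] ≤ B))
    rw [hk, Nat.card_zpowers]
    exact l.cop.pow_right k)]
  exact (commutator_mono (le_cmod.1 (zpowers_le.2 m)).2 le_rfl).trans c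

theorem Ex.cc {a b : G} (ha : a ∈ B ⊓ 𝐂[V]) (hb : b ∈ B ⊓ 𝐂[V]) : Commute ⁅a, b⁆ f := by
  have h1 : ⁅⁅B ⊓ 𝐂[V], zpowers f⁆, B ⊓ 𝐂[V]⁆ = ⊥ :=
    comm_eq_bot_iff'.2 (inf_le_right.trans (cent_anti (e.blk l)))
  have h2 := commutator_commutator_eq_bot_of_rotate h1 (by rwa [commutator_comm (zpowers f)])
  exact mem_cent'.1 (comm_eq_bot_iff'.1 h2 (mem_zpowers f)) _ (commutator_mem_commutator ha hb)

variable (l' : Ln B V' P' f' w') (n : ¬ V' ≤ 𝐂[V]) (l'' : Ln B V'' P'' f'' w'') (n' : w'' ≠ w)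
include l' n l'' n'

omit e in
theorem far : V ≤ 𝐂[V''] ∧ V' ≤ 𝐂[V''] :=
  ⟨by_contra fun c => n' (LP.w_eq l'' l le_rfl le_rfl l''.le l.le c), by_contra fun c =>
    n' ((LP.w_eq l'' l' le_rfl le_rfl l''.le l'.le c).trans
      (LP.w_eq l l' le_rfl le_rfl l.le l'.le n).symm)⟩

theorem Ex.farA : Commute w f'' := by
  obtain ⟨a, b⟩ := far l l' n l'' n'
  obtain ⟨u, hu, c⟩ := SetLike.not_le_iff_exists.1 n
  obtain ⟨v, hv, rfl⟩ := l.exists_v (l'.le hu) c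
  exact e.cc l'' ⟨l.le hv, a hv⟩ ⟨l'.le hu, b hu⟩

theorem Ex.farB : Commute w'' f := by
  obtain ⟨a, b⟩ := far l l' n l'' n'
  obtain ⟨u, hu, c⟩ := SetLike.not_le_iff_exists.1 n
  obtain ⟨A, hA, y, hy, hn, -⟩ := l''.exists_a
  have yB := abFam_le hA hy
  obtain ⟨v, hv, rfl⟩ := l''.exists_v yB hn
  have m : v ∈ B ⊓ 𝐂[V] := ⟨l''.le hv, cent_comm a hv⟩
  by_cases d : y ∈ 𝐂[V]
  · exact e.cc l m ⟨yB, d⟩
  · have e1 : ⁅v, y⁆ = ⁅v, y * u⁻¹⁆ := by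
      have := (mem_cent'.1 (b hu) v hv).inv_left.eq
      simp only [commutatorElement_def, mul_inv_rev, inv_inv, mul_assoc]
      rw [← mul_assoc v⁻¹ u, this, mul_assoc u, inv_mul_cancel_left]
    rw [e1]
    exact e.cc l m (mem_inf.2 ⟨mul_mem yB (inv_mem (l'.le hu)), l.idx yB (l'.le hu) d c⟩)

end

namespace Hy
variable (h : Hy T)
include h

theorem only (k : HT T H) (l : TL T V P f w) (hP : P ≤ H) (l' : TL T V' P' f' w') (hP' : P' ≤ H)
    (n : V ≠ V') (l'' : TL T V'' P'' f'' w'') (hP'' : P'' ≤ H) :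
    (P = P'' ∧ w = w'') ∨ (P' = P'' ∧ w' = w'') :=
  ((h.three k l hP l' hP' l'' hP'').resolve_left n).imp (h.of_eq k l hP l'' hP'')
    (h.of_eq k l' hP' l'' hP'')

/-- A line that is moved by `t ∈ T`. -/
theorem orb (l : TL T V P f w) (ht : t ∈ T) (n : V ≠ cj(t, V)) :
    (∀ s ∈ T, s * w * s⁻¹ = w ∨ s * w * s⁻¹ = t * w * t⁻¹) ∧ w * (t * w * t⁻¹) ∈ ΩZ[2, T] ∧
      w * (t * w * t⁻¹) ≠ 1 := by
  obtain ⟨H, k, hP⟩ := l.ex
  have c : ∀ s ∈ T, cj(s, P) ≤ H := fun s hs => cj_le_of_mem hP (k.le hs)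
  have a : ∀ s ∈ T, s * w * s⁻¹ = w ∨ s * w * s⁻¹ = t * w * t⁻¹ := fun s hs =>
    (h.only k l hP (l.cjT ht) (c t ht) n (l.cjT hs) (c s hs)).imp (·.2.symm) (·.2.symm)
  have b := (h.of_ne k l hP (l.cjT ht) (c t ht) n).2
  have m := mem_oz.1 (mul_mem l.wZ (l.cjT ht).wZ)
  have d := (l.wc ((l.cjT ht).le (l.cjT ht).wV)).eq
  refine ⟨a, mem_oz.2 ⟨bm_le T m.1, mem_cent.2 fun s hs => ?_, m.2.2⟩, fun e =>
    b ((l.inv_eq l.wV).symm.trans (inv_eq_of_mul_eq_one_right e))⟩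
  have e1 : s * (w * (t * w * t⁻¹)) = s * w * s⁻¹ * (s * t * w * (s * t)⁻¹) * s := by group
  have e2 : s * w * s⁻¹ ≠ s * t * w * (s * t)⁻¹ := fun e => b (by
    calc w = s⁻¹ * (s * w * s⁻¹) * s := by group
      _ = _ := by rw [e]; group)
  rw [e1]
  rcases a s hs with e | e <;> rcases a (s * t) (mul_mem hs ht) with e' | e'
  · exact absurd (e.trans e'.symm) e2
  · rw [e, e']
  · rw [e, e', d]
  · exact absurd (e.trans e'.symm) e2

theorem exc (e : Ex (bm T)) : ∃ z, Good T z := by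
  obtain ⟨V, P, f, w, V', P', f', w', l, l', n0⟩ := h.exists_pair
  have n : ¬ V' ≤ 𝐂[V] := fun c => n0 (norm_of_comm_le' le_sup_left ((commutator_mono
    (sup_le l.VQ (le_inf l'.le c)) le_rfl).trans (e.blk l.toLn)) (mem_zpowers f))
  obtain rfl := LP.w_eq l.toLn l'.toLn le_rfl le_rfl l.le l'.le n
  have key : ∀ {V'' P'' f'' w''}, TL T V'' P'' f'' w'' → ∃ s ∈ T, s * w'' * s⁻¹ = w :=
    fun {V'' P'' f'' w''} l'' => by_contra fun c => by
      push Not at c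
      have m : zpowers w'' ≤ T := zpowers_le.2 (bm_le T (l''.le l''.wV))
      obtain ⟨z, z1, z2, z3⟩ := exists_inv h.pg (ncl_le_self m) (le_norm_ncl T _) fun e =>
        l''.w1 (mem_bot.1 (e ▸ le_ncl T _ (mem_zpowers w'')))
      have k := h.ht_cent z3 z2
      have a : ∀ g : G, (∀ s ∈ T, Commute (s * w'' * s⁻¹) g) → g ∈ 𝐂[zpowers z] := fun g hg =>
        cent_comm (zpowers_le.2 ((ncl_le_iff.2 fun s hs => by
          rw [MonoidHom.map_zpowers]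
          exact zpowers_le.2 (cent_comm (zpowers_le.2 (mem_cent'.2 fun x hx => by
            obtain ⟨i, rfl⟩ := mem_zpowers_iff.1 hx
            exact (hg s hs).zpow_left i)) (mem_zpowers _)) : _ ≤ 𝐂[zpowers g]) z1)) (mem_zpowers g)
      have b := (bm_le T).trans k.le
      exact n (h.comm k l (l.P_le b (a f fun s hs => e.farB l.toLn l'.toLn n (l''.cjT hs).toLn (c s hs)))
        l' (l'.P_le b (a f' fun s hs =>
          e.farB l'.toLn l.toLn (fun d => n (cent_comm d)) (l''.cjT hs).toLn (c s hs))))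
  by_cases c : ∀ s ∈ T, s * w * s⁻¹ = w
  · refine ⟨w, mem_oz.2 ⟨bm_le T (l.le l.wV), mem_cent.2 fun s hs =>
      mul_inv_eq_iff_eq_mul.1 (c s hs), (mem_oz.1 l.wZ).2.2⟩, l.w1, fun V'' P'' f'' w'' l'' => ?_⟩
    obtain ⟨s, hs, e1⟩ := key l''
    have : w'' = w := by rw [← c s⁻¹ (inv_mem hs), ← e1]; group
    exact this ▸ l''.wf
  push Not at c
  obtain ⟨t, ht, c⟩ := c
  obtain ⟨H, k, hP⟩ := l.ex
  obtain ⟨a1, a2, a3⟩ := h.orb l ht fun d =>
    c (h.of_eq k l hP (l.cjT ht) (cj_le_of_mem hP (k.le ht)) d).2.symm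
  refine ⟨_, a2, a3, fun V'' P'' f'' w'' l'' d => l''.wf ?_⟩
  obtain ⟨s, hs, e1⟩ := key l''
  have e2 : s⁻¹ * w * s⁻¹⁻¹ = w'' := by rw [← e1]; group
  rcases a1 s⁻¹ (inv_mem hs) with e3 | e3 <;> rw [e2] at e3
  · have := e.farA (l.cjT ht).toLn (l'.cjT ht).toLn (by rwa [← cj_cent, cj_le_cj]) l''.toLn
      (e3 ▸ c.symm)
    simpa only [e3, mul_inv_cancel_right] using d.mul_left this.inv_left
  · have := e.farA l.toLn l'.toLn n l''.toLn (e3 ▸ c)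
    simpa only [e3, inv_mul_cancel_left] using this.inv_left.mul_left d

end Hy

end Cfsg.Agent.QL
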